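import Mathlib
import Cfsg.Agent.H98.Lat.AlgInt

/-!
# S4879 (H1): generalized characters all of whose values are divisible by `p` (helper193)

`A = ∑ v(χ) χ`, `v` integral, `A(g) / p` a local integer at `M` for all `g`.

* `le_sq` : `p |v(1_G)| ≤ ∑ v(χ)²`;
* `vals_of_eq` : if `p v(1_G) = ∑ v(χ)²` then `A(g) ∈ {0, p}` for all `g`.
-/

set_option autoImplicit false
set_option linter.unusedSectionVars false

open Cfsg
open scoped ComplexConjugate

namespace Cfsg.Agent.H193.LB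

open Cfsg.Agent.Characters.Core Cfsg.Agent.Characters.GaloisBasic Cfsg.Agent.H616 Cfsg.Agent.Blocks
  Cfsg.Agent.Blocks.Basic

universe u

/-! ### Galois families -/

section Fam

variable {q : ℕ} [NeZero q] {F : ℕ → ℂ} {p : ℕ} {M : Ideal AlgInt}

theorem fam_key (h : GalFam q F) (h1 : F 1 ≠ 0) (hM : IsPModular p M)
    (ht : ∀ u : (ZMod q)ˣ, MemLocalRing M (F (u : ZMod q).val / (p : ℂ))) :
    (p : ℝ) ^ 2 * Fintype.card (ZMod q)ˣ ≤ ∑ u : (ZMod q)ˣ, ‖F (u : ZMod q).val‖ ^ 2 := by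
  have h2 := h.card_le_sum h1 hM (t := 1) fun u => by
    rw [pow_one]
    exact ht u
  rwa [pow_one] at h2

theorem fam_sq :
    ∑ u : (ZMod q)ˣ, (‖F (u : ZMod q).val‖ - p) ^ 2 = ∑ u : (ZMod q)ˣ, ‖F (u : ZMod q).val‖ ^ 2 -
      2 * (p * ∑ u : (ZMod q)ˣ, ‖F (u : ZMod q).val‖) + (p : ℝ) ^ 2 * Fintype.card (ZMod q)ˣ := by
  have h1 : ∀ u : (ZMod q)ˣ, (‖F (u : ZMod q).val‖ - p) ^ 2 =
      ‖F (u : ZMod q).val‖ ^ 2 - 2 * (p * ‖F (u : ZMod q).val‖) + (p : ℝ) ^ 2 := fun u => by ring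
  rw [Finset.sum_congr rfl fun u _ => h1 u, Finset.sum_add_distrib, Finset.sum_sub_distrib, ← Finset.mul_sum,
    ← Finset.mul_sum, Finset.sum_const, Finset.card_univ, nsmul_eq_mul, mul_comm ((Fintype.card (ZMod q)ˣ : ℕ) : ℝ)]

/-- `p ∑ |F u| ≤ ∑ |F u|²` -/
theorem fam_le (h : GalFam q F) (hM : IsPModular p M)
    (ht : ∀ u : (ZMod q)ˣ, MemLocalRing M (F (u : ZMod q).val / (p : ℂ))) :
    (p : ℝ) * ∑ u : (ZMod q)ˣ, ‖F (u : ZMod q).val‖ ≤ ∑ u : (ZMod q)ˣ, ‖F (u : ZMod q).val‖ ^ 2 := by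
  by_cases h1 : F 1 = 0
  · have h2 : ∀ u : (ZMod q)ˣ, F (u : ZMod q).val = 0 := fun u =>
      h.eq_zero (NeZero.ne q) h1 (ZMod.val_coe_unit_coprime u)
    simp [h2]
  have h2 := fam_key h h1 hM ht
  have h3 := fam_sq (q := q) (F := F) (p := p)
  have h4 : 0 ≤ ∑ u : (ZMod q)ˣ, (‖F (u : ZMod q).val‖ - p) ^ 2 := Finset.sum_nonneg fun u _ => sq_nonneg _
  rw [h3] at h4
  linarith

/-- the case of equality -/
theorem fam_eq (h : GalFam q F) (hM : IsPModular p M)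
    (ht : ∀ u : (ZMod q)ˣ, MemLocalRing M (F (u : ZMod q).val / (p : ℂ)))
    (heq : (p : ℝ) * ∑ u : (ZMod q)ˣ, ‖F (u : ZMod q).val‖ = ∑ u : (ZMod q)ˣ, ‖F (u : ZMod q).val‖ ^ 2) :
    (∀ u : (ZMod q)ˣ, ‖F (u : ZMod q).val‖ = 0) ∨ ∀ u : (ZMod q)ˣ, ‖F (u : ZMod q).val‖ = p := by
  by_cases h1 : F 1 = 0
  · left
    intro u
    rw [h.eq_zero (NeZero.ne q) h1 (ZMod.val_coe_unit_coprime u), norm_zero]
  right
  have h2 := fam_key h h1 hM ht
  have h3 := fam_sq (q := q) (F := F) (p := p)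
  have h4 : ∑ u : (ZMod q)ˣ, (‖F (u : ZMod q).val‖ - p) ^ 2 ≤ 0 := by
    rw [h3]
    linarith
  have h5 : ∑ u : (ZMod q)ˣ, (‖F (u : ZMod q).val‖ - p) ^ 2 = 0 :=
    le_antisymm h4 (Finset.sum_nonneg fun u _ => sq_nonneg _)
  intro u
  have h6 := (Finset.sum_eq_zero_iff_of_nonneg (fun u _ => sq_nonneg _)).1 h5 u (Finset.mem_univ _)
  have h7 := pow_eq_zero_iff (two_ne_zero) |>.1 h6
  linarith

end Fam

/-! ### the group -/

variable {G : Type u} [Group G] [Finite G] [Fintype (IrrCharacter G)]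

/-- the combination -/
noncomputable def comb (v : IrrCharacter G → ℤ) (g : G) : ℂ := ∑ χ : IrrCharacter G, (v χ : ℂ) * (χ : G → ℂ) g

variable {p : ℕ} {M : Ideal AlgInt}

theorem comb_integral (v : IrrCharacter G → ℤ) (g : G) : IsIntegral ℤ (comb v g) := by
  unfold comb
  refine IsIntegral.sum _ fun χ _ => ?_
  have h1 : IsIntegral ℤ ((v χ : ℤ) : ℂ) := isIntegral_algebraMap
  exact h1.mul (Characters.GaloisBasic.isIntegral_apply (isIrr_isCharacter χ.2) g)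

theorem galFam_comb (v : IrrCharacter G → ℤ) (g : G) : GalFam (Nat.card G) fun k => comb v (g ^ k) := by
  refine ⟨fun k => comb_integral v _, fun k k' hk => ?_, fun σ m hσ k => ?_⟩
  · have h1 : g ^ k = g ^ k' := by
      rw [pow_eq_pow_iff_modEq]
      exact hk.of_dvd (orderOf_dvd_natCard g)
    simp only [h1]
  · show σ (comb v (g ^ k)) = comb v (g ^ (k * m))
    unfold comb
    rw [map_sum]
    refine Finset.sum_congr rfl fun χ _ => ?_
    rw [map_mul, map_intCast, map_apply σ hσ (isIrr_isCharacter χ.2) Nat.card_pos.ne' pow_card_eq_one', ← pow_mul]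

/-- the mean value of `|A|²` -/
theorem sum_sq [Fintype G] (v : IrrCharacter G → ℤ) :
    (∑ g : G, ‖comb v g‖ ^ 2 : ℝ) = Nat.card G * ((∑ χ, v χ ^ 2 : ℤ) : ℝ) := by
  have hG' : (Nat.card G : ℂ) ≠ 0 := card_ne_zero_complex
  have h1 := Cfsg.Agent.H703.Lat.classInner_comb (B := (Finset.univ : Finset (IrrCharacter G)))
    (fun χ => (v χ : ℂ)) (fun χ => (v χ : ℂ))
  have h2 : classInner (comb v) (comb v) = (Nat.card G : ℂ)⁻¹ * ((∑ g : G, ‖comb v g‖ ^ 2 : ℝ) : ℂ) := by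
    rw [Cfsg.Agent.Characters.Core.classInner_def]
    congr 1
    push_cast
    refine Finset.sum_congr rfl fun g _ => ?_
    rw [Complex.mul_conj, Complex.normSq_eq_norm_sq]
    push_cast
    rfl
  have h1' : classInner (comb v) (comb v) = ∑ χ : IrrCharacter G, (v χ : ℂ) * conj (v χ : ℂ) := h1
  rw [h2] at h1'
  have h4 : ((∑ g : G, ‖comb v g‖ ^ 2 : ℝ) : ℂ) = ((Nat.card G * ((∑ χ, v χ ^ 2 : ℤ) : ℝ) : ℝ) : ℂ) := by
    have h5 : ∑ χ : IrrCharacter G, (v χ : ℂ) * conj (v χ : ℂ) = (((∑ χ, v χ ^ 2 : ℤ) : ℝ) : ℂ) := by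
      push_cast
      refine Finset.sum_congr rfl fun χ _ => ?_
      rw [map_intCast, sq]
    rw [h5] at h1'
    rw [Complex.ofReal_mul, ← h1', ← mul_assoc, Complex.ofReal_natCast, mul_inv_cancel₀ hG', one_mul]
  exact Complex.ofReal_injective h4

/-- the mean value of `A` -/
theorem sum_val [Fintype G] (v : IrrCharacter G → ℤ) :
    ∑ g : G, comb v g = Nat.card G * (v ⟨fun _ => 1, isIrrCharacter_one⟩ : ℂ) := by
  classical
  set one : IrrCharacter G := ⟨fun _ => 1, isIrrCharacter_one⟩ with hone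
  have hG' : (Nat.card G : ℂ) ≠ 0 := card_ne_zero_complex
  have h6 := Cfsg.Agent.H703.Lat.classInner_comb (B := (Finset.univ : Finset (IrrCharacter G)))
    (fun χ => (v χ : ℂ)) (fun χ => if χ = one then (1 : ℂ) else 0)
  have h7 : (fun g : G => ∑ χ : IrrCharacter G, (if χ = one then (1 : ℂ) else 0) * (χ : G → ℂ) g) =
      fun _ => (1 : ℂ) := by
    funext g
    rw [Finset.sum_eq_single_of_mem one (Finset.mem_univ _) (fun χ _ h => by rw [if_neg h, zero_mul]), if_pos rfl,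
      one_mul]
  rw [h7, Cfsg.Agent.Characters.Core.classInner_def] at h6
  have h8 : ∑ χ : IrrCharacter G, (v χ : ℂ) * conj (if χ = one then (1 : ℂ) else 0) = v one := by
    rw [Finset.sum_eq_single_of_mem one (Finset.mem_univ _) (fun χ _ h => by rw [if_neg h, map_zero, mul_zero]),
      if_pos rfl, map_one, mul_one]
  rw [h8] at h6
  simp only [map_one, mul_one] at h6
  have h9 : (Nat.card G : ℂ)⁻¹ * ∑ g : G, comb v g = v one := h6
  rw [← h9, ← mul_assoc, mul_inv_cancel₀ hG', one_mul]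

variable [NeZero (Nat.card G)]

theorem sum_units [Fintype G] (f : G → ℝ) :
    ∑ g : G, ∑ u : (ZMod (Nat.card G))ˣ, f (g ^ (u : ZMod (Nat.card G)).val) =
      Fintype.card (ZMod (Nat.card G))ˣ * ∑ g : G, f g := by
  rw [Finset.sum_comm]
  have h3 : ∀ u : (ZMod (Nat.card G))ˣ, ∑ g : G, f (g ^ (u : ZMod (Nat.card G)).val) = ∑ g : G, f g := by
    intro u
    exact Fintype.sum_equiv (powCoprime (ZMod.val_coe_unit_coprime u).symm) _ _ fun g => rfl
  rw [Finset.sum_congr rfl fun u _ => h3 u, Finset.sum_const, Finset.card_univ, nsmul_eq_mul]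

omit [NeZero (Nat.card G)] in
/-- `p |v(1)| ≤ ∑ v²` -/
theorem le_sq (hM : IsPModular p M) (v : IrrCharacter G → ℤ)
    (hloc : ∀ g : G, MemLocalRing M ((∑ χ, (v χ : ℂ) * (χ : G → ℂ) g) / (p : ℂ))) :
    (p : ℤ) * |v ⟨fun _ => 1, isIrrCharacter_one⟩| ≤ ∑ χ, v χ ^ 2 := by
  classical
  have := Fintype.ofFinite G
  have hne : NeZero (Nat.card G) := ⟨Nat.card_pos.ne'⟩
  set one : IrrCharacter G := ⟨fun _ => 1, isIrrCharacter_one⟩ with hone
  have hG : (0 : ℝ) < Nat.card G := by exact_mod_cast Nat.card_pos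
  have hN : (0 : ℝ) < Fintype.card (ZMod (Nat.card G))ˣ := by exact_mod_cast Fintype.card_pos
  -- the inequality for the sums over the group
  have h1 : (p : ℝ) * ∑ g : G, ‖comb v g‖ ≤ ∑ g : G, ‖comb v g‖ ^ 2 := by
    have h2 := Finset.sum_le_sum fun (g : G) (_ : g ∈ Finset.univ) =>
      fam_le (galFam_comb v g) hM (fun u => hloc _)
    rw [← Finset.mul_sum, sum_units (fun g => ‖comb v g‖), sum_units (fun g => ‖comb v g‖ ^ 2)] at h2
    refine le_of_mul_le_mul_left ?_ hN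
    calc _ = (p : ℝ) * (Fintype.card (ZMod (Nat.card G))ˣ * ∑ g : G, ‖comb v g‖) := by ring
      _ ≤ _ := h2
  have h2 : (Nat.card G : ℝ) * |(v one : ℝ)| ≤ ∑ g : G, ‖comb v g‖ := by
    have h11 : ‖∑ g : G, comb v g‖ = (Nat.card G : ℝ) * |(v one : ℝ)| := by
      rw [sum_val, norm_mul, Complex.norm_natCast]
      congr 1
      rw [← Real.norm_eq_abs, ← Complex.norm_real]
      simp [hone]
    rw [← h11]
    exact norm_sum_le _ _
  rw [sum_sq] at h1
  have h3 : (Nat.card G : ℝ) * (p * |(v one : ℝ)|) ≤ Nat.card G * ((∑ χ, v χ ^ 2 : ℤ) : ℝ) := by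
    have h4 : (p : ℝ) * ((Nat.card G : ℝ) * |(v one : ℝ)|) ≤ p * ∑ g : G, ‖comb v g‖ :=
      mul_le_mul_of_nonneg_left h2 (Nat.cast_nonneg p)
    calc _ = (p : ℝ) * ((Nat.card G : ℝ) * |(v one : ℝ)|) := by ring
      _ ≤ _ := h4.trans h1
  have h5 := le_of_mul_le_mul_left h3 hG
  exact_mod_cast h5

omit [NeZero (Nat.card G)] in
/-- the case of equality -/
theorem vals_of_eq (hM : IsPModular p M) (v : IrrCharacter G → ℤ)
    (hloc : ∀ g : G, MemLocalRing M ((∑ χ, (v χ : ℂ) * (χ : G → ℂ) g) / (p : ℂ)))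
    (h : (p : ℤ) * v ⟨fun _ => 1, isIrrCharacter_one⟩ = ∑ χ, v χ ^ 2) :
    ∀ g : G, ∑ χ, (v χ : ℂ) * (χ : G → ℂ) g = 0 ∨ ∑ χ, (v χ : ℂ) * (χ : G → ℂ) g = p := by
  classical
  have := Fintype.ofFinite G
  have hne : NeZero (Nat.card G) := ⟨Nat.card_pos.ne'⟩
  set one : IrrCharacter G := ⟨fun _ => 1, isIrrCharacter_one⟩ with hone
  have hG : (0 : ℝ) < Nat.card G := by exact_mod_cast Nat.card_pos
  have hN : (0 : ℝ) < Fintype.card (ZMod (Nat.card G))ˣ := by exact_mod_cast Fintype.card_pos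
  have hp1 := hM.1
  have hp : (0 : ℝ) < p := by exact_mod_cast hp1.pos
  -- the real parts
  have hre : ∑ g : G, (comb v g).re = Nat.card G * (v one : ℝ) := by
    have h1 := congrArg Complex.re (sum_val v)
    rw [Complex.re_sum] at h1
    rw [h1]
    simp [hone]
  have hle : ∑ g : G, (comb v g).re ≤ ∑ g : G, ‖comb v g‖ := Finset.sum_le_sum fun g _ => Complex.re_le_norm _
  have hfam : ∀ g : G, (p : ℝ) * ∑ u : (ZMod (Nat.card G))ˣ, ‖comb v (g ^ (u : ZMod (Nat.card G)).val)‖ ≤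
      ∑ u : (ZMod (Nat.card G))ˣ, ‖comb v (g ^ (u : ZMod (Nat.card G)).val)‖ ^ 2 := fun g =>
    fam_le (galFam_comb v g) hM (fun u => hloc _)
  have hsum1 : ∑ g : G, (p : ℝ) * ∑ u : (ZMod (Nat.card G))ˣ, ‖comb v (g ^ (u : ZMod (Nat.card G)).val)‖ =
      Fintype.card (ZMod (Nat.card G))ˣ * (p * ∑ g : G, ‖comb v g‖) := by
    rw [← Finset.mul_sum, sum_units (fun g => ‖comb v g‖)]
    ring
  have hsum2 : ∑ g : G, ∑ u : (ZMod (Nat.card G))ˣ, ‖comb v (g ^ (u : ZMod (Nat.card G)).val)‖ ^ 2 =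
      Fintype.card (ZMod (Nat.card G))ˣ * ∑ g : G, ‖comb v g‖ ^ 2 := sum_units (fun g => ‖comb v g‖ ^ 2)
  have hR : (p : ℝ) * (v one : ℝ) = ((∑ χ, v χ ^ 2 : ℤ) : ℝ) := by exact_mod_cast h
  -- the chain of inequalities
  have hchain : ∑ g : G, ‖comb v g‖ ^ 2 ≤ p * ∑ g : G, (comb v g).re := by
    rw [sum_sq, hre, ← hR]
    exact le_of_eq (by ring)
  have hmid : (p : ℝ) * ∑ g : G, ‖comb v g‖ ≤ ∑ g : G, ‖comb v g‖ ^ 2 := by
    have h2 := Finset.sum_le_sum fun (g : G) (_ : g ∈ Finset.univ) => hfam g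
    rw [hsum1, hsum2] at h2
    exact le_of_mul_le_mul_left h2 hN
  have hreq : ∑ g : G, (comb v g).re = ∑ g : G, ‖comb v g‖ :=
    le_antisymm hle (le_of_mul_le_mul_left (hmid.trans hchain) hp)
  have hfeq : (p : ℝ) * ∑ g : G, ‖comb v g‖ = ∑ g : G, ‖comb v g‖ ^ 2 :=
    le_antisymm hmid (hchain.trans (le_of_eq (by rw [hreq])))
  have hre2 : ∀ g : G, (comb v g).re = ‖comb v g‖ := fun g =>
    (Finset.sum_eq_sum_iff_of_le fun g _ => Complex.re_le_norm (comb v g)).1 hreq g (Finset.mem_univ _)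
  have hfam2 : ∀ g : G, (p : ℝ) * ∑ u : (ZMod (Nat.card G))ˣ, ‖comb v (g ^ (u : ZMod (Nat.card G)).val)‖ =
      ∑ u : (ZMod (Nat.card G))ˣ, ‖comb v (g ^ (u : ZMod (Nat.card G)).val)‖ ^ 2 := fun g =>
    (Finset.sum_eq_sum_iff_of_le fun g _ => hfam g).1 (by rw [hsum1, hsum2, hfeq]) g (Finset.mem_univ _)
  intro g
  have hz : ((comb v g).re : ℂ) = comb v g := by
    have h1 : (comb v g).im = 0 := by
      have h2 : ‖comb v g‖ ^ 2 = (comb v g).re ^ 2 + (comb v g).im ^ 2 := by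
        rw [← Complex.normSq_eq_norm_sq, Complex.normSq_apply]
        ring
      rw [hre2 g] at h2
      have h3 : (comb v g).im ^ 2 = 0 := by linarith
      exact pow_eq_zero_iff (two_ne_zero) |>.1 h3
    exact Complex.ext (by simp) (by simp [h1])
  have hg1 : ‖comb v g‖ = 0 ∨ ‖comb v g‖ = p := by
    have h1 : ((1 : (ZMod (Nat.card G))ˣ) : ZMod (Nat.card G)).val ≡ 1 [MOD Nat.card G] := by
      rw [← ZMod.natCast_eq_natCast_iff, ZMod.natCast_zmod_val, Units.val_one, Nat.cast_one]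
    have h2 : g ^ ((1 : (ZMod (Nat.card G))ˣ) : ZMod (Nat.card G)).val = g := by
      conv_rhs => rw [← pow_one g]
      rw [pow_eq_pow_iff_modEq]
      exact h1.of_dvd (orderOf_dvd_natCard g)
    rcases fam_eq (galFam_comb v g) hM (fun u => hloc _) (hfam2 g) with h3 | h3
    · left
      have := h3 1
      rwa [h2] at this
    · right
      have := h3 1
      rwa [h2] at this
  have hfin : comb v g = 0 ∨ comb v g = p := by
    rcases hg1 with h1 | h1
    · left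
      exact norm_eq_zero.1 h1
    · right
      rw [← hz, hre2 g, h1]
      simp
  exact hfin

end Cfsg.Agent.H193.LB
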